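import Mathlib

set_option autoImplicit false

/-! A computational field with four elements. -/

namespace CfsgLib.SporB

/-- The field with four elements: `a + b ω` with `ω² = ω + 1`. -/
structure FFour where
  c0 : Bool
  c1 : Bool
  deriving DecidableEq, Fintype

namespace FFour

instance ffourAdd : Add FFour := ⟨fun a b => ⟨xor a.c0 b.c0, xor a.c1 b.c1⟩⟩
instance ffourMul : Mul FFour :=
  ⟨fun a b => ⟨xor (a.c0 && b.c0) (a.c1 && b.c1),
    xor (xor (a.c0 && b.c1) (a.c1 && b.c0)) (a.c1 && b.c1)⟩⟩
instance ffourNeg : Neg FFour := ⟨fun a => a⟩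
instance ffourZero : Zero FFour := ⟨⟨false, false⟩⟩
instance ffourOne : One FFour := ⟨⟨true, false⟩⟩

instance ffourCommRing : CommRing FFour :=
  CommRing.ofMinimalAxioms (by decide) (by decide) (by decide) (by decide) (by decide) (by decide)
    (by decide)

instance ffourField : Field FFour where
  inv a := a * a
  exists_pair_ne := ⟨0, 1, by decide⟩
  mul_inv_cancel := by decide
  inv_zero := by decide
  nnqsmul := _
  nnqsmul_def := fun _ _ => rfl
  qsmul := _
  qsmul_def := fun _ _ => rfl

theorem card_eq : Fintype.card FFour = 4 := by decide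

/-- Elements from codes `0, 1, 2, 3` for `0, 1, ω, ω + 1`. -/
def ofCode (n : ℕ) : FFour := ⟨n % 2 == 1, n / 2 % 2 == 1⟩

/-- The code of an element. -/
def code (a : FFour) : ℕ := (bif a.c0 then 1 else 0) + 2 * (bif a.c1 then 1 else 0)

theorem ofCode_code : ∀ a : FFour, ofCode (code a) = a := by decide

theorem code_lt : ∀ a : FFour, code a < 4 := by decide

end FFour

end CfsgLib.SporB
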