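import Mathlib

set_option autoImplicit false

/-! The centraliser of the transvection `1 + E₀₁` in `SL(5, 2)`. -/

namespace CfsgLib.SporB.SL5

open Matrix

abbrev K := ZMod 2
abbrev M5 := Matrix (Fin 5) (Fin 5) K
abbrev M3 := Matrix (Fin 3) (Fin 3) K
abbrev S5 := Matrix.SpecialLinearGroup (Fin 5) K

/-- Indices 2, 3, 4. -/
abbrev mid (i : Fin 3) : Fin 5 := ⟨i.val + 2, by omega⟩

/-- The element of the centraliser with given blocks. -/
def mk (A : M3) (u v : Fin 3 → K) (c : K) : M5 :=
  !![1, c, u 0, u 1, u 2;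
     0, 1, 0, 0, 0;
     0, v 0, A 0 0, A 0 1, A 0 2;
     0, v 1, A 1 0, A 1 1, A 1 2;
     0, v 2, A 2 0, A 2 1, A 2 2]

theorem det_mk (A : M3) (u v : Fin 3 → K) (c : K) : (mk A u v c).det = A.det := by
  simp [mk, Matrix.det_succ_column_zero, Matrix.det_fin_three, Fin.sum_univ_succ]
  try ring

/-- Commuting with `1 + E₀₁` means: column 0 and row 1 are multiples of unit vectors. -/
theorem commute_iff (g : M5) :
    g * Matrix.transvection 0 1 1 = Matrix.transvection 0 1 1 * g ↔
      g 0 0 = g 1 1 ∧ (∀ i, i ≠ 0 → g i 0 = 0) ∧ (∀ j, j ≠ 1 → g 1 j = 0) := by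
  rw [Matrix.transvection, mul_add, add_mul, mul_one, one_mul, add_right_inj]
  constructor
  · intro h
    refine ⟨?_, fun i hi => ?_, fun j hj => ?_⟩
    · simpa using congrFun (congrFun h 0) 1
    · simpa [hi] using congrFun (congrFun h i) 1
    · simpa [hj] using (congrFun (congrFun h 0) j).symm
  · rintro ⟨h0, h1, h2⟩
    ext i j
    by_cases hi : i = 0 <;> by_cases hj : j = 1
    · subst hi; subst hj; simpa using h0
    · subst hi; simp [hj, h2 j hj]
    · subst hj; simp [hi, h1 i hi]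
    · simp [hi, hj]

variable {s : S5} (hs : (s : M5) = Matrix.transvection 0 1 1)
include hs

theorem mem_iff (g : S5) : g ∈ Subgroup.centralizer ({s} : Set S5) ↔
    (g : M5) 0 0 = 1 ∧ (g : M5) 1 1 = 1 ∧ (∀ i, i ≠ 0 → (g : M5) i 0 = 0) ∧
      (∀ j, j ≠ 1 → (g : M5) 1 j = 0) := by
  rw [Subgroup.mem_centralizer_singleton_iff,
    show g * s = s * g ↔ ((g * s : S5) : M5) = ((s * g : S5) : M5) from Subtype.ext_iff]
  simp only [Matrix.SpecialLinearGroup.coe_mul, hs, commute_iff]
  constructor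
  · rintro ⟨h0, h1, h2⟩
    have : (g : M5) 0 0 = 1 := by
      rcases (by decide : ∀ a : K, a = 0 ∨ a = 1) ((g : M5) 0 0) with h | h
      · exact absurd g.2 (by
          rw [Matrix.det_eq_zero_of_column_eq_zero 0 fun i => by
            by_cases hi : i = 0
            · exact hi ▸ h
            · exact h1 i hi]
          exact zero_ne_one)
      · exact h
    exact ⟨this, h0 ▸ this, h1, h2⟩
  · rintro ⟨ha, hb, h1, h2⟩
    exact ⟨ha.trans hb.symm, h1, h2⟩

/-- The middle block. -/
def blk (g : S5) : M3 := fun i j => (g : M5) (mid i) (mid j)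

theorem eq_mk {g : S5} (hg : g ∈ Subgroup.centralizer ({s} : Set S5)) :
    (g : M5) = mk (blk g) (fun j => (g : M5) 0 (mid j)) (fun i => (g : M5) (mid i) 1) ((g : M5) 0 1) := by
  obtain ⟨h0, h1, hc, hr⟩ := (mem_iff hs g).mp hg
  ext i j
  fin_cases i <;> fin_cases j <;> first
    | exact h0 | exact h1 | exact hc _ (by decide) | exact hr _ (by decide) | rfl

theorem det_blk {g : S5} (hg : g ∈ Subgroup.centralizer ({s} : Set S5)) : (blk g).det = 1 := by
  have h := g.2
  rw [eq_mk hs hg, det_mk] at h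
  exact h

/-- The element with given blocks. -/
def mkC (A : {A : M3 // A.det = 1}) (u v : Fin 3 → K) (c : K) : Subgroup.centralizer ({s} : Set S5) :=
  ⟨⟨mk A.1 u v c, by rw [det_mk]; exact A.2⟩, (mem_iff hs _).mpr ⟨rfl, rfl,
    fun i hi => by fin_cases i <;> first | exact absurd rfl hi | rfl,
    fun j hj => by fin_cases j <;> first | exact absurd rfl hj | rfl⟩⟩

theorem card_centralizer : Nat.card (Subgroup.centralizer ({s} : Set S5)) = 21504 := by
  let e : {A : M3 // A.det = 1} × (Fin 3 → K) × (Fin 3 → K) × K ≃ Subgroup.centralizer ({s} : Set S5) :=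
    { toFun := fun p => mkC hs p.1 p.2.1 p.2.2.1 p.2.2.2
      invFun := fun g => (⟨blk (g : S5), det_blk hs g.2⟩, fun j => ((g : S5) : M5) 0 (mid j),
        fun i => ((g : S5) : M5) (mid i) 1, ((g : S5) : M5) 0 1)
      left_inv := fun ⟨⟨A, hA⟩, u, v, c⟩ => by
        refine Prod.ext (Subtype.ext ?_) (Prod.ext ?_ (Prod.ext ?_ rfl))
        · ext i j; fin_cases i <;> fin_cases j <;> rfl
        · funext j; fin_cases j <;> rfl
        · funext i; fin_cases i <;> rfl
      right_inv := fun g => Subtype.ext (Subtype.ext (eq_mk hs g.2).symm) }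
  rw [← Nat.card_congr e, Nat.card_eq_fintype_card, Fintype.card_prod]
  rw [show Fintype.card {A : M3 // A.det = 1} = 168 by decide +kernel]
  simp

/-- Block homomorphism to 3 × 3 matrices. -/
def blkHom : Subgroup.centralizer ({s} : Set S5) →* M3 where
  toFun g := blk (g : S5)
  map_one' := by ext i j; fin_cases i <;> fin_cases j <;> rfl
  map_mul' g h := by
    ext i j
    obtain ⟨-, -, hc, -⟩ := (mem_iff hs _).mp g.2
    obtain ⟨-, -, -, hr⟩ := (mem_iff hs _).mp h.2
    simp only [blk, Subgroup.coe_mul, Matrix.SpecialLinearGroup.coe_mul, Matrix.mul_apply, Fin.sum_univ_five]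
    rw [hc (mid i) (Fin.ne_of_val_ne (by simp)), hr (mid j) (Fin.ne_of_val_ne (by simp))]
    simp [Fin.sum_univ_three]
    rfl

theorem isPGroup_ker : IsPGroup 2 (blkHom hs).ker := by
  intro g
  refine ⟨2, Subtype.ext (Subtype.ext (Subtype.ext ?_))⟩
  have hg : blk ((g.1 : Subgroup.centralizer ({s} : Set S5)) : S5) = 1 := g.2
  simp only [SubgroupClass.coe_pow, Matrix.SpecialLinearGroup.coe_pow, OneMemClass.coe_one,
    Matrix.SpecialLinearGroup.coe_one]
  rw [eq_mk hs g.1.2, hg, show 2 ^ 2 = 2 * 2 from rfl, pow_mul]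
  generalize (fun j => ((g.1.1 : S5) : M5) 0 (mid j)) = u
  generalize (fun i => ((g.1.1 : S5) : M5) (mid i) 1) = v
  generalize ((g.1.1 : S5) : M5) 0 1 = c
  have h2 : mk 1 u v c * mk 1 u v c = mk 1 0 0 (u 0 * v 0 + u 1 * v 1 + u 2 * v 2) := by
    ext i j
    fin_cases i <;> fin_cases j <;> simp [mk, Matrix.mul_apply, Fin.sum_univ_five] <;>
      exact CharTwo.add_self_eq_zero _
  rw [pow_two, pow_two, h2]
  generalize u 0 * v 0 + u 1 * v 1 + u 2 * v 2 = d
  revert d
  decide +kernel

theorem centre_of_ker {x : Subgroup.centralizer ({s} : Set S5)}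
    (h : ∀ y ∈ (blkHom hs).ker, y * x = x * y) : ((x : S5) : M5) = 1 ∨ (x : S5) = s := by
  have key : ∀ (u v : Fin 3 → K), mk 1 u v 0 * ((x : S5) : M5) = ((x : S5) : M5) * mk 1 u v 0 := by
    intro u v
    have := h (mkC hs ⟨1, det_one⟩ u v 0) (by
      rw [MonoidHom.mem_ker]; ext i j; fin_cases i <;> fin_cases j <;> rfl)
    exact congrArg (fun g : Subgroup.centralizer ({s} : Set S5) => ((g : S5) : M5)) this
  have hx := eq_mk hs x.2
  set A := blk (x : S5)
  set a := fun j => ((x : S5) : M5) 0 (mid j)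
  set b := fun i => ((x : S5) : M5) (mid i) 1
  set c := ((x : S5) : M5) 0 1
  rw [hx] at key
  have hu : ∀ i j : Fin 3, A i j = (1 : M3) i j ∧ a j = 0 ∧ b i = 0 := by
    intro i j
    have h1 := congrFun (congrFun (key (Pi.single i 1) 0) 0) (mid j)
    have h2 := congrFun (congrFun (key (Pi.single i 1) 0) 0) 1
    have h3 := congrFun (congrFun (key 0 (Pi.single j 1)) 0) 1
    fin_cases i <;> fin_cases j <;>
      simp [mk, Matrix.mul_apply, Fin.sum_univ_five, Pi.single_apply] at h1 h2 h3 <;>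
      simp_all
  have hA : A = 1 := by ext i j; exact (hu i j).1
  have ha : a = 0 := by funext j; exact (hu 0 j).2.1
  have hb : b = 0 := by funext i; exact (hu i 0).2.2
  rw [hA, ha, hb] at hx
  rcases (by decide : ∀ a : K, a = 0 ∨ a = 1) c with hc | hc <;> rw [hc] at hx
  · left; rw [hx]; decide +kernel
  · right; apply Subtype.ext; rw [hx, hs]; decide +kernel

end CfsgLib.SporB.SL5
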