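import Cfsg.Agent.J1.Orders
import Cfsg.Prelude.Def_Sporadic

set_option autoImplicit false

/-!
Simplicity of `J₁`: elements of order 7, 11, 19 are self-centralising, so a normal subgroup
`N ≠ 1` of order not divisible by such a prime `p` has order `1` mod `p`, and otherwise its index
divides `p(p-1)`. The only possible indices are coprime to 35, the product of the orders of the
generators.
-/

namespace CfsgLib.SporB.J1

variable {G : Type*} [Group G] [Finite G]

/-- A prime `p` such that `p` is the only element order divisible by `p`. -/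
def Isolated (G : Type*) [Group G] (p : ℕ) : Prop := ∀ g : G, p ∣ orderOf g → orderOf g = p

theorem card_modEq_one {p : ℕ} [hp : _root_.Fact p.Prime] (hiso : Isolated G p) {x : G}
    (hx : orderOf x = p) (N : Subgroup G) [N.Normal] (hN : ¬ p ∣ Nat.card N) :
    Nat.card N ≡ 1 [MOD p] := by
  letI : MulAction (Subgroup.zpowers x) N :=
    MulAction.compHom N ((MulAut.conjNormal (H := N)).comp (Subgroup.zpowers x).subtype)
  have hP : IsPGroup p (Subgroup.zpowers x) :=
    IsPGroup.of_card (n := 1) (by rw [Nat.card_zpowers, hx, pow_one])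
  refine (hP.card_modEq_card_fixedPoints N).trans ?_
  have heq : MulAction.fixedPoints (Subgroup.zpowers x) N = {1} := by
    ext a
    simp only [MulAction.mem_fixedPoints, Set.mem_singleton_iff]
    constructor
    · intro ha
      have hc : x * (a : G) * x⁻¹ = a := congrArg Subtype.val (ha ⟨x, Subgroup.mem_zpowers x⟩)
      have hcomm : Commute x (a : G) := mul_inv_eq_iff_eq_mul.mp hc
      have hcop : Nat.Coprime (orderOf x) (orderOf (a : G)) := by
        rw [hx, hp.out.coprime_iff_not_dvd]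
        intro h
        exact hN (h.trans (by rw [Subgroup.orderOf_coe]; exact orderOf_dvd_natCard a))
      have ho := hcomm.orderOf_mul_eq_mul_orderOf_of_coprime hcop
      have h1 := hiso (x * a) (by rw [ho, hx]; exact dvd_mul_right _ _)
      rw [ho, hx] at h1
      exact Subtype.ext (orderOf_eq_one_iff.mp (by simpa [hp.out.ne_zero] using h1))
    · rintro rfl y
      exact Subtype.ext (show (y : G) * 1 * (y : G)⁻¹ = 1 by simp)
  rw [heq]
  simp only [Nat.card_eq_fintype_card, Fintype.card_unique]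
  rfl

theorem card_dvd_mul {p : ℕ} [hp : _root_.Fact p.Prime] (hiso : Isolated G p) {x : G}
    (hx : orderOf x = p) (hsq : ¬ p ^ 2 ∣ Nat.card G) (N : Subgroup G) [N.Normal]
    (hN : p ∣ Nat.card N) : Nat.card G ∣ Nat.card N * (p * (p - 1)) := by
  obtain ⟨P⟩ : Nonempty (Sylow p N) := inferInstance
  set P' : Subgroup G := (P : Subgroup N).map N.subtype with hP'
  have hpG : p ∣ Nat.card G := hN.trans (Subgroup.card_subgroup_dvd_card N)
  have hfac : ∀ m, m ∣ Nat.card G → p ∣ m → m.factorization p = 1 := by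
    intro m hm hpm
    have hm0 : m ≠ 0 := fun h => Nat.card_pos.ne' (Nat.eq_zero_of_zero_dvd (h ▸ hm))
    have h1 := (hp.out.pow_dvd_iff_le_factorization hm0 (k := 1)).mp (by simpa using hpm)
    have h2 : ¬ 2 ≤ m.factorization p := fun h =>
      hsq (((hp.out.pow_dvd_iff_le_factorization hm0).mpr h).trans hm)
    omega
  have hcP : Nat.card P' = p := by
    rw [hP', Subgroup.card_map_of_injective N.subtype_injective, P.card_eq_multiplicity,
      hfac _ (Subgroup.card_subgroup_dvd_card N) hN, pow_one]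
  haveI : IsCyclic P' := isCyclic_of_prime_card hcP
  have hC : Subgroup.centralizer (P' : Set G) ≤ P' := by
    obtain ⟨z, hz⟩ := exists_prime_orderOf_dvd_card' (G := P') p (by rw [hcP])
    have hzo : orderOf (z : G) = p := by rw [Subgroup.orderOf_coe, hz]
    have hle : P' ≤ Subgroup.centralizer (P' : Set G) := by
      intro a ha b hb
      letI := IsCyclic.commGroup (α := P')
      exact congrArg Subtype.val (mul_comm (⟨b, hb⟩ : P') ⟨a, ha⟩)
    have hpow : IsPGroup p (Subgroup.centralizer (P' : Set G)) := by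
      intro a
      refine ⟨1, ?_⟩
      rw [pow_one]
      refine Subtype.ext ?_
      rw [Subgroup.coe_pow, Subgroup.coe_one]
      by_cases hpa : p ∣ orderOf (a : G)
      · rw [← hiso _ hpa]; exact pow_orderOf_eq_one _
      · have hcomm : Commute (z : G) (a : G) := a.2 z z.2
        have ho := hcomm.orderOf_mul_eq_mul_orderOf_of_coprime
          (by rw [hzo, hp.out.coprime_iff_not_dvd]; exact hpa)
        have h1 := hiso _ (by rw [ho, hzo]; exact dvd_mul_right _ _)
        rw [ho, hzo] at h1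
        have h2 : orderOf (a : G) = 1 := by simpa [hp.out.ne_zero] using h1
        rw [orderOf_eq_one_iff.mp h2, one_pow]
    obtain ⟨k, hk⟩ := IsPGroup.iff_card.mp hpow
    refine (Subgroup.eq_of_le_of_card_ge hle ?_).ge
    rw [hcP, hk]
    by_contra h
    have h2 : 2 ≤ k := by
      by_contra hk2
      interval_cases k
      · simp at h; exact absurd hp.out.two_le (by omega)
      · simp at h
    exact hsq ((pow_dvd_pow p h2).trans (hk ▸ Subgroup.card_subgroup_dvd_card _))
  have hnorm : Nat.card (Subgroup.normalizer (P' : Set G)) ∣ p * (p - 1) := by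
    have hker : Nat.card P'.normalizerMonoidHom.ker ∣ p := by
      rw [Subgroup.normalizerMonoidHom_ker]
      refine (Subgroup.card_dvd_of_injective
        (Subgroup.inclusion (Subgroup.comap_mono hC)) (Subgroup.inclusion_injective _)).trans ?_
      rw [← hcP]
      exact dvd_of_eq (Nat.card_congr (Subgroup.subgroupOfEquivOfLe Subgroup.le_normalizer).toEquiv)
    rw [Subgroup.card_eq_card_quotient_mul_card_subgroup P'.normalizerMonoidHom.ker,
      Nat.card_congr (QuotientGroup.quotientKerEquivRange _).toEquiv, mul_comm]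
    refine mul_dvd_mul hker ((Subgroup.card_subgroup_dvd_card _).trans ?_)
    rw [IsCyclic.card_mulAut, hcP, Nat.totient_prime hp.out]
  have hsup : Subgroup.normalizer (P' : Set G) ⊔ N = ⊤ := Sylow.normalizer_sup_eq_top P
  have h1 : N.index ∣ Nat.card (Subgroup.normalizer (P' : Set G)) := by
    have h2 : Function.Surjective ((QuotientGroup.mk' N).comp
        (Subgroup.normalizer (P' : Set G)).subtype) := by
      rw [← MonoidHom.range_eq_top, MonoidHom.range_comp, Subgroup.range_subtype, eq_top_iff,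
        ← MonoidHom.range_eq_top.mpr (QuotientGroup.mk'_surjective N), MonoidHom.range_eq_map,
        ← hsup, Subgroup.map_sup, QuotientGroup.map_mk'_self, sup_bot_eq]
    exact Subgroup.card_dvd_of_surjective _ h2
  rw [← Subgroup.card_mul_index N]
  exact mul_dvd_mul_left _ (h1.trans hnorm)

omit [Finite G] in
theorem mem_of_pow_eq_one {N : Subgroup G} [N.Normal] {g : G} {m : ℕ} (hg : g ^ m = 1)
    (hcop : Nat.Coprime m N.index) : g ∈ N := by
  rw [← QuotientGroup.eq_one_iff, ← orderOf_eq_one_iff]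
  refine Nat.eq_one_of_dvd_coprimes hcop (orderOf_dvd_of_pow_eq_one ?_) (orderOf_dvd_natCard _)
  rw [← QuotientGroup.mk_pow, hg, QuotientGroup.mk_one]

theorem index_coprime {d : ℕ} (hd : d ∣ 175560)
    (h7 : (7 ∣ d ∧ 175560 ∣ d * 42) ∨ (¬ 7 ∣ d ∧ d % 7 = 1))
    (h11 : (11 ∣ d ∧ 175560 ∣ d * 110) ∨ (¬ 11 ∣ d ∧ d % 11 = 1))
    (h19 : (19 ∣ d ∧ 175560 ∣ d * 342) ∨ (¬ 19 ∣ d ∧ d % 19 = 1)) :
    d = 1 ∨ Nat.Coprime 35 (175560 / d) := by
  obtain ⟨a, b, ha, hb, rfl⟩ := Nat.dvd_mul.mp (show d ∣ 120 * 1463 from hd)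
  have key : ∀ a ∈ Nat.divisors 120, ∀ b ∈ Nat.divisors 1463,
      ((7 ∣ a * b ∧ 175560 ∣ a * b * 42) ∨ (¬ 7 ∣ a * b ∧ a * b % 7 = 1)) →
      ((11 ∣ a * b ∧ 175560 ∣ a * b * 110) ∨ (¬ 11 ∣ a * b ∧ a * b % 11 = 1)) →
      ((19 ∣ a * b ∧ 175560 ∣ a * b * 342) ∨ (¬ 19 ∣ a * b ∧ a * b % 19 = 1)) →
      a * b = 1 ∨ Nat.Coprime 35 (175560 / (a * b)) := by
    decide +kernel
  exact key a (Nat.mem_divisors.mpr ⟨ha, by norm_num⟩) b (Nat.mem_divisors.mpr ⟨hb, by norm_num⟩)
    h7 h11 h19

theorem isSimpleGroup_J1 : IsSimpleGroup Cfsg.Spor.J1 := by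
  have hcard := CfsgLib.J1.card_J1
  haveI : Finite Cfsg.Spor.J1 := Nat.finite_of_card_ne_zero (by rw [hcard]; norm_num)
  haveI : Nontrivial Cfsg.Spor.J1 := Finite.one_lt_card_iff_nontrivial.mp (by rw [hcard]; norm_num)
  refine ⟨fun N _ => ?_⟩
  have hr := CfsgLib.J1.range_orderOf_J1
  have hiso : ∀ p ∈ [7, 11, 19], Isolated Cfsg.Spor.J1 p ∧ ∃ x : Cfsg.Spor.J1, orderOf x = p := by
    intro p hp
    refine ⟨fun g hg => ?_, ?_⟩
    · have h : orderOf g ∈ [1, 2, 3, 5, 6, 7, 10, 11, 15, 19] := hr.subset ⟨g, rfl⟩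
      revert h hg
      generalize orderOf g = m
      intro hg h
      fin_cases hp <;> fin_cases h <;> first | rfl | (norm_num at hg)
    · have h : p ∈ Set.range (orderOf : Cfsg.Spor.J1 → ℕ) := by
        rw [hr]; fin_cases hp <;> simp
      exact h
  have hkey : ∀ p ∈ [7, 11, 19], ((p ∣ Nat.card N ∧ 175560 ∣ Nat.card N * (p * (p - 1))) ∨
      (¬ p ∣ Nat.card N ∧ Nat.card N % p = 1)) := by
    intro p hp
    haveI : _root_.Fact p.Prime := ⟨by fin_cases hp <;> norm_num⟩
    obtain ⟨hi, x, hx⟩ := hiso p hp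
    by_cases h : p ∣ Nat.card N
    · refine Or.inl ⟨h, hcard ▸ card_dvd_mul hi hx ?_ N h⟩
      rw [hcard]; fin_cases hp <;> norm_num
    · refine Or.inr ⟨h, ?_⟩
      have := card_modEq_one hi hx N h
      rw [Nat.ModEq, Nat.one_mod_eq_one.mpr (Fact.out : p.Prime).ne_one] at this
      exact this
  have hd : Nat.card N ∣ 175560 := hcard ▸ Subgroup.card_subgroup_dvd_card N
  rcases index_coprime hd (hkey 7 (by simp)) (hkey 11 (by simp)) (hkey 19 (by simp))
    with h | h
  · exact Or.inl (Subgroup.card_eq_one.mp h)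
  · right
    have hi : N.index = 175560 / Nat.card N := by
      rw [← hcard, ← Subgroup.card_mul_index N, Nat.mul_div_cancel_left _ Nat.card_pos]
    rw [← hi] at h
    rw [eq_top_iff, ← Subgroup.map_le_map_iff_of_injective Cfsg.Spor.J1.subtype_injective,
      ← MonoidHom.range_eq_map, Subgroup.range_subtype]
    refine (Subgroup.closure_le _).mpr ?_
    rintro g (rfl | rfl)
    · exact ⟨⟨_, Subgroup.subset_closure (Or.inl rfl)⟩,
        mem_of_pow_eq_one (m := 35) (Subtype.ext (Units.ext (by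
          show Units.val (Cfsg.Spor.jankoX ^ 35) = 1
          rw [Units.val_pow_eq_pow_val]; decide +kernel))) h, rfl⟩
    · exact ⟨⟨_, Subgroup.subset_closure (Or.inr rfl)⟩,
        mem_of_pow_eq_one (m := 35) (Subtype.ext (Units.ext (by
          show Units.val (Cfsg.Spor.jankoY ^ 35) = 1
          rw [Units.val_pow_eq_pow_val]; decide +kernel))) h, rfl⟩

theorem isJ1 : Cfsg.IsJ1 Cfsg.Spor.J1 := ⟨isSimpleGroup_J1, CfsgLib.J1.card_J1⟩

end CfsgLib.SporB.J1
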