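import Cfsg.Prelude.Def_SporadicB

set_option autoImplicit false

/-! Elementary identities for two members of a set of 3-transpositions. -/

namespace CfsgLib.SporB

variable {G : Type*} [Group G] {E : Set G}

theorem mul_self_of_orderTwo {d : G} (h : orderOf d = 2) : d * d = 1 := by
  have := pow_orderOf_eq_one d
  rwa [h, pow_two] at this

theorem inv_of_orderTwo {d : G} (h : orderOf d = 2) : d⁻¹ = d :=
  inv_eq_of_mul_eq_one_right (mul_self_of_orderTwo h)

theorem ttSq (hE : Cfsg.IsThreeTranspositionSet E) {d : G} (hd : d ∈ E) : d * d = 1 :=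
  mul_self_of_orderTwo (hE.1 d hd)

theorem ttCancel (hE : Cfsg.IsThreeTranspositionSet E) {d : G} (hd : d ∈ E) (x : G) :
    d * (d * x) = x := by
  rw [← mul_assoc, ttSq hE hd, one_mul]

theorem ttBraid (hE : Cfsg.IsThreeTranspositionSet E) {d e : G} (hd : d ∈ E) (he : e ∈ E)
    (h : ¬ Commute d e) : d * e * d = e * d * e := by
  have h1 := inv_of_orderTwo (hE.1 d hd)
  have h2 := inv_of_orderTwo (hE.1 e he)
  rcases hE.2 d hd e he with h' | h'
  · refine absurd ?_ h
    rw [pow_two, mul_eq_one_iff_eq_inv, mul_inv_rev, h1, h2] at h'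
    exact h'
  · have : (d * e * d) * (e * d * e) = 1 := by
      rw [← h']; simp only [pow_succ, pow_zero, one_mul]; group
    rw [mul_eq_one_iff_eq_inv, mul_inv_rev, mul_inv_rev, h1, h2, ← mul_assoc] at this
    exact this

theorem ttPairCentral (hE : Cfsg.IsThreeTranspositionSet E) {a b e : G} (ha : a ∈ E) (hb : b ∈ E)
    (he : e ∈ E) (hab : a ≠ b) (hc : Commute e (a * b)) : Commute e a ∧ Commute e b := by
  have hea : Commute e a := by
    by_contra hna
    have hbr : e * a * e = a * e * a := ttBraid hE he ha hna
    have key : (e * a * e) * (e * b * e) = a * b := by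
      calc (e * a * e) * (e * b * e) = (e * (a * b)) * e := by
            simp only [mul_assoc, ttCancel hE he]
        _ = (a * b) * e * e := by rw [hc.eq]
        _ = a * b := by simp only [mul_assoc, ttSq hE he, mul_one]
    have k2 : e * b * e = a * e * b := by
      have := congrArg (fun x => (a * e * a) * x) key
      rw [hbr] at this
      simpa only [mul_assoc, ttCancel hE ha, ttCancel hE he] using this
    by_cases heb : Commute e b
    · rw [heb.eq, mul_assoc b e e, ttSq hE he, mul_one] at k2
      have k3 : a * e = 1 := (eq_comm.trans mul_eq_right).mp k2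
      rw [mul_eq_one_iff_eq_inv, inv_of_orderTwo (hE.1 e he)] at k3
      exact hna (by subst k3; exact Commute.refl _)
    · rw [ttBraid hE he hb heb] at k2
      exact hab (mul_right_cancel (mul_right_cancel k2)).symm
  refine ⟨hea, ?_⟩
  have := hea.mul_right hc
  rwa [ttCancel hE ha] at this

end CfsgLib.SporB
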