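import Cfsg.Prelude.Def_SporadicB

set_option autoImplicit false

/-! An involution centralising a Sylow 2-subgroup lies in it, and the large-subgroup argument for
a Sylow 2-subgroup of an involution centraliser. -/

namespace CfsgLib.SporB

theorem mem_sylow_of_centralizes {G : Type*} [Group G] {p : ℕ} [Fact p.Prime] {z : G} {n : ℕ}
    (hz : orderOf z = p ^ n) (P : Sylow p G) (hP : (P : Subgroup G) ≤ Subgroup.centralizer {z}) :
    z ∈ P := by
  have hzp : IsPGroup p (Subgroup.zpowers z) :=
    IsPGroup.of_card (n := n) (by rw [Nat.card_zpowers, hz])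
  have hN : Subgroup.zpowers z ≤ Subgroup.normalizer ((P : Subgroup G) : Set G) := by
    rw [Subgroup.zpowers_le]
    refine Subgroup.mem_normalizer_iff.mpr fun x => ?_
    constructor
    · intro hx
      have := Subgroup.mem_centralizer_singleton_iff.mp (hP hx)
      rw [← this, mul_inv_cancel_right]
      exact hx
    · intro hx
      have := Subgroup.mem_centralizer_singleton_iff.mp (hP hx)
      have h' : z * x * z⁻¹ * z = z * (z * x * z⁻¹) := this
      rw [inv_mul_cancel_right] at h'
      have h'' := mul_left_cancel h'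
      rwa [← h''] at hx
  have h := hzp.inf_normalizer_sylow P
  exact inf_eq_left.mp (h.symm.trans (inf_eq_left.mpr hN)) (Subgroup.mem_zpowers z)

/-- If a 2-subgroup `T` of the centraliser of an involution `z` has centralising part contained in
`{1, z}`, and is maximal as a 2-subgroup of that centraliser, then it is a Sylow 2-subgroup. -/
theorem sylow_of_centre_le {G : Type*} [Group G] [Finite G] {p : ℕ} [Fact p.Prime] {z : G}
    {T : Subgroup G} (hT : IsPGroup p T) (hTC : T ≤ Subgroup.centralizer {z}) (hzT : z ∈ T)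
    (hmax : ∀ U : Subgroup G, IsPGroup p U → U ≤ Subgroup.centralizer {z} → T ≤ U → U = T)
    (hZ : ∀ x ∈ T, orderOf x = orderOf z → (∀ y ∈ T, y * x = x * y) → x = z) :
    ∃ P : Sylow p G, (P : Subgroup G) = T := by
  obtain ⟨P, hTP⟩ := hT.exists_le_sylow
  refine ⟨P, le_antisymm ?_ hTP⟩
  by_contra hlt
  haveI : Group.IsNilpotent P := P.isPGroup'.isNilpotent
  have hlt' : T.subgroupOf P < ⊤ := lt_top_iff_ne_top.mpr (fun h => hlt (Subgroup.subgroupOf_eq_top.mp h))
  obtain ⟨g, hg, hgT⟩ := SetLike.exists_of_lt (normalizerCondition_of_isNilpotent _ hlt')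
  have hgz : (g : G) * z * (g : G)⁻¹ = z := by
    apply hZ
    · exact Subgroup.mem_subgroupOf.mp ((Subgroup.mem_normalizer_iff.mp hg ⟨z, hTP hzT⟩).mp hzT)
    · exact (MulAut.conj (g : G)).orderOf_eq z
    · intro y hy
      have hy' : (g : G)⁻¹ * y * (g : G) ∈ T := by
        have := (Subgroup.mem_normalizer_iff.mp hg (g⁻¹ * ⟨y, hTP hy⟩ * g)).mpr (by
          simpa [Subgroup.mem_subgroupOf, mul_assoc] using hy)
        simpa [Subgroup.mem_subgroupOf, mul_assoc] using this
      have := Subgroup.mem_centralizer_singleton_iff.mp (hTC hy')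
      calc y * ((g : G) * z * (g : G)⁻¹) = (g : G) * ((g : G)⁻¹ * y * (g : G) * z) * (g : G)⁻¹ := by group
        _ = (g : G) * (z * ((g : G)⁻¹ * y * (g : G))) * (g : G)⁻¹ := by rw [this]
        _ = _ := by group
  have hgC : (g : G) ∈ Subgroup.centralizer {z} :=
    Subgroup.mem_centralizer_singleton_iff.mpr (mul_inv_eq_iff_eq_mul.mp hgz)
  have hU := hmax (T ⊔ Subgroup.zpowers (g : G))
    (P.isPGroup'.to_le (sup_le hTP (Subgroup.zpowers_le.mpr g.2)))
    (sup_le hTC (Subgroup.zpowers_le.mpr hgC)) le_sup_left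
  exact hgT (Subgroup.mem_subgroupOf.mpr (hU ▸ (le_sup_right : _ ≤ T ⊔ Subgroup.zpowers (g : G)) (Subgroup.mem_zpowers _)))

end CfsgLib.SporB
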