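import Cfsg.Prelude.Def_SporadicB

set_option autoImplicit false

/-!
A non-split double cover of the alternating group of degree 8, inside the pairs `(σ, M)` of a
permutation and a matrix over `ZMod 3` with `M γ i = sign σ • γ (σ i) M`, for eight anticommuting
16-dimensional matrices `γ i` of square 1.
-/

namespace CfsgLib.SporB.CoverEight

open Equiv Matrix

/-- Matrices in 16 dimensions. -/
abbrev M16 := Matrix (Fin 16) (Fin 16) (ZMod 3)

/-- Parity of the number of binary digits equal to one of a number less than 16. -/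
def par (n : ℕ) : Bool :=
  ((n % 2) + (n / 2 % 2) + (n / 4 % 2) + (n / 8 % 2)) % 2 == 1

/-- The signed permutation matrix `X^x Z^z`. -/
def pauli (x z : ℕ) : M16 :=
  Matrix.of fun i j =>
    if i.val = j.val ^^^ x then (if par (j.val &&& z) then (-1 : ZMod 3) else 1) else 0

/-- Eight anticommuting matrices of square 1. -/
def γ (i : Fin 8) : M16 :=
  match i with
  | 0 => pauli 0 1
  | 1 => pauli 1 0
  | 2 => pauli 3 3
  | 3 => pauli 5 7
  | 4 => pauli 7 13
  | 5 => pauli 9 15
  | 6 => pauli 11 9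
  | 7 => pauli 13 11

theorem γ_sq : ∀ i, γ i * γ i = 1 := by decide +kernel

theorem γ_anti : ∀ i j, i ≠ j → γ i * γ j = -(γ j * γ i) := by decide +kernel

/-- Words in the `γ i` equal, up to sign, to the single qubit operators `Z_k`. -/
def zWord : Fin 4 → List (Fin 8)
  | 0 => [0] | 1 => [0, 1, 3, 5, 7] | 2 => [0, 1, 2, 5, 6] | 3 => [0, 1, 2, 3, 4]

/-- Words in the `γ i` equal, up to sign, to the single qubit operators `X_k`. -/
def xWord : Fin 4 → List (Fin 8)
  | 0 => [1] | 1 => [2, 3, 5, 7] | 2 => [0, 1, 2, 6, 7] | 3 => [4, 5, 6, 7]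

theorem zWord_spec : ∀ k : Fin 4, ((zWord k).map γ).prod = pauli 0 (2 ^ k.val) ∨
    ((zWord k).map γ).prod = -pauli 0 (2 ^ k.val) := by decide +kernel

theorem xWord_spec : ∀ k : Fin 4, ((xWord k).map γ).prod = pauli (2 ^ k.val) 0 ∨
    ((xWord k).map γ).prod = -pauli (2 ^ k.val) 0 := by decide +kernel

theorem pauli_zero (z : ℕ) : pauli 0 z =
    Matrix.diagonal fun j : Fin 16 => if par (j.val &&& z) then (-1 : ZMod 3) else 1 := by
  ext i j
  rcases eq_or_ne i j with rfl | hij
  · simp [pauli]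
  · simp [pauli, hij, Fin.val_inj]

theorem scalar_of_commute {M : M16} (hM : ∀ i, Commute M (γ i)) : M = M 0 0 • (1 : M16) := by
  have hw : ∀ l : List (Fin 8), Commute M (l.map γ).prod := by
    intro l
    induction l with
    | nil => simp
    | cons a l ih => simpa using (hM a).mul_right ih
  have hz : ∀ k : Fin 4, Commute M (pauli 0 (2 ^ k.val)) := by
    intro k
    rcases zWord_spec k with h | h
    · have h2 := hw (zWord k)
      rwa [h] at h2
    · have h2 := (hw (zWord k)).neg_right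
      rwa [h, neg_neg] at h2
  have hx : ∀ k : Fin 4, Commute M (pauli (2 ^ k.val) 0) := by
    intro k
    rcases xWord_spec k with h | h
    · have h2 := hw (xWord k)
      rwa [h] at h2
    · have h2 := (hw (xWord k)).neg_right
      rwa [h, neg_neg] at h2
  have hdiag : ∀ i j : Fin 16, i ≠ j → M i j = 0 := by
    intro i j hij
    have key : ∀ i j : Fin 16, i ≠ j → ∃ k : Fin 4,
        par (i.val &&& 2 ^ k.val) ≠ par (j.val &&& 2 ^ k.val) := by decide +kernel
    obtain ⟨k, hk⟩ := key i j hij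
    have h := congrFun (congrFun (hz k).eq i) j
    rw [pauli_zero, Matrix.mul_diagonal, Matrix.diagonal_mul] at h
    revert h hk
    cases par (i.val &&& 2 ^ k.val) <;> cases par (j.val &&& 2 ^ k.val) <;>
      generalize M i j = a <;> revert a <;> decide
  have hconst : ∀ (k : Fin 4) (i : Fin 16), ∀ j : Fin 16, j.val = i.val ^^^ 2 ^ k.val →
      M j j = M i i := by
    intro k i j hj
    have h := congrFun (congrFun (hx k).eq j) i
    simp only [Matrix.mul_apply, pauli, Matrix.of_apply] at h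
    rw [Finset.sum_eq_single j, Finset.sum_eq_single i] at h
    · simpa [hj, show par 0 = false by decide] using h
    · intro l _ hl; rw [hdiag l i hl, mul_zero]
    · simp
    · intro l _ hl; rw [hdiag j l (Ne.symm hl), zero_mul]
    · simp
  have hall : ∀ i : Fin 16, M i i = M 0 0 := by
    have key : ∀ i : Fin 16, i ≠ 0 → ∃ (k : Fin 4) (j : Fin 16),
        j.val < i.val ∧ i.val = j.val ^^^ 2 ^ k.val := by decide +kernel
    intro i
    induction i using WellFoundedLT.induction with
    | ind i ih =>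
      rcases eq_or_ne i 0 with rfl | hi
      · rfl
      · obtain ⟨k, j, hlt, hj⟩ := key i hi
        exact (hconst k j i hj).trans (ih j hlt)
  ext i j
  rcases eq_or_ne i j with rfl | hij
  · simp [hall i]
  · simp [hij, hdiag i j hij]

/-- The sign of a permutation, as a scalar. -/
def sgn (σ : Perm (Fin 8)) : ZMod 3 := ((Perm.sign σ : ℤ) : ZMod 3)

theorem sgn_mul (σ τ : Perm (Fin 8)) : sgn (σ * τ) = sgn σ * sgn τ := by
  simp [sgn]

/-- `M` implements `σ`. -/
def Rel (σ : Perm (Fin 8)) (M : M16) : Prop := ∀ i, M * γ i = sgn σ • (γ (σ i) * M)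

/-- The pairs. -/
def big : Subgroup (Perm (Fin 8) × GL (Fin 16) (ZMod 3)) where
  carrier := {p | Rel p.1 p.2}
  one_mem' := fun i => by simp [sgn]
  mul_mem' := by
    intro p q hp hq i
    show (p.2 : M16) * (q.2 : M16) * γ i = sgn (p.1 * q.1) • (γ (p.1 (q.1 i)) * ((p.2 : M16) * (q.2 : M16)))
    rw [mul_assoc, hq i, mul_smul_comm, ← mul_assoc, hp (q.1 i), smul_mul_assoc, smul_smul, sgn_mul,
      mul_comm (sgn q.1), mul_assoc]
  inv_mem' := by
    intro p hp i
    have h := hp (p.1⁻¹ i)
    rw [Equiv.Perm.inv_def, Equiv.apply_symm_apply] at h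
    have h2 := congrArg (fun A : M16 => (↑p.2⁻¹ : M16) * A * (↑p.2⁻¹ : M16)) h
    simp only [mul_smul_comm, smul_mul_assoc, ← mul_assoc, Units.inv_mul, one_mul] at h2
    simp only [mul_assoc, Units.mul_inv, mul_one] at h2
    show (↑p.2⁻¹ : M16) * γ i = sgn p.1⁻¹ • (γ (p.1⁻¹ i) * (↑p.2⁻¹ : M16))
    have hs : sgn p.1 * sgn p.1⁻¹ = 1 := by rw [← sgn_mul, mul_inv_cancel]; simp [sgn]
    rw [Equiv.Perm.inv_def, h2, smul_smul, mul_comm (sgn _), ← Equiv.Perm.inv_def, hs, one_smul]

/-- The subgroup of even pairs. -/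
def even : Subgroup (Perm (Fin 8) × GL (Fin 16) (ZMod 3)) :=
  big ⊓ (alternatingGroup (Fin 8)).comap (MonoidHom.fst _ _)

/-- The projection. -/
def proj : even →* alternatingGroup (Fin 8) where
  toFun p := ⟨p.1.1, p.2.2⟩
  map_one' := rfl
  map_mul' _ _ := rfl

/-- The lift of the transposition `(i j)`. -/
def liftSwap (i j : Fin 8) (h : i ≠ j) : Perm (Fin 8) × GL (Fin 16) (ZMod 3) :=
  (swap i j, ⟨γ i - γ j, -(γ i - γ j), by
    have e : (γ i - γ j) * (γ i - γ j) = -1 := by
      simp only [sub_mul, mul_sub, γ_sq, γ_anti j i (Ne.symm h)]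
      have h3 : (2 : ZMod 3) • (1 : M16) = -1 := by decide +kernel
      rw [← h3, two_smul]; abel
    rw [mul_neg, e, neg_neg], by
    have e : (γ i - γ j) * (γ i - γ j) = -1 := by
      simp only [sub_mul, mul_sub, γ_sq, γ_anti j i (Ne.symm h)]
      have h3 : (2 : ZMod 3) • (1 : M16) = -1 := by decide +kernel
      rw [← h3, two_smul]; abel
    rw [neg_mul, e, neg_neg]⟩)

theorem liftSwap_mem (i j : Fin 8) (h : i ≠ j) : liftSwap i j h ∈ big := by
  intro k
  show (γ i - γ j) * γ k = sgn (swap i j) • (γ (swap i j k) * (γ i - γ j))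
  have hs : sgn (swap i j) = -1 := by simp [sgn, Perm.sign_swap h]
  rw [hs, neg_smul, one_smul]
  rcases eq_or_ne k i with rfl | hki
  · rw [swap_apply_left]
    simp only [sub_mul, mul_sub, γ_sq]; abel
  rcases eq_or_ne k j with rfl | hkj
  · rw [swap_apply_right]
    simp only [sub_mul, mul_sub, γ_sq]; abel
  rw [swap_apply_of_ne_of_ne hki hkj]
  simp only [sub_mul, mul_sub, γ_anti i k (Ne.symm hki), γ_anti j k (Ne.symm hkj)]; abel

theorem proj_surjective : Function.Surjective proj := by
  have htop : big.map (MonoidHom.fst _ _) = ⊤ := by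
    rw [eq_top_iff, ← Perm.closure_isSwap, Subgroup.closure_le]
    rintro σ ⟨i, j, hij, rfl⟩
    exact ⟨liftSwap i j hij, liftSwap_mem i j hij, rfl⟩
  intro σ
  obtain ⟨p, hp, hpσ⟩ : σ.1 ∈ big.map (MonoidHom.fst _ _) := htop ▸ Subgroup.mem_top _
  refine ⟨⟨p, hp, ?_⟩, Subtype.ext hpσ⟩
  show p.1 ∈ alternatingGroup (Fin 8)
  exact (show p.1 = σ.1 from hpσ) ▸ σ.2

/-- The central element. -/
def negOne : even :=
  ⟨(1, -1), ⟨fun i => by simp [sgn],
    (show (1 : Perm (Fin 8)) ∈ alternatingGroup (Fin 8) from one_mem _)⟩⟩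

theorem eq_of_proj {p : even} (h : proj p = 1) : p = 1 ∨ p = negOne := by
  have h1 : p.1.1 = 1 := congrArg Subtype.val h
  have hc : ∀ i, Commute (p.1.2 : M16) (γ i) := fun i => by
    have := p.2.1 i
    show (p.1.2 : M16) * γ i = γ i * (p.1.2 : M16)
    simpa [h1, sgn] using this
  have hsc := scalar_of_commute hc
  have h0 : (p.1.2 : M16) 0 0 ≠ 0 := by
    intro hz
    rw [hz, zero_smul] at hsc
    have := p.1.2.mul_inv
    rw [hsc, zero_mul] at this
    exact (show (0 : M16) ≠ 1 by decide +kernel) this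
  have hcase : ∀ a : ZMod 3, a ≠ 0 → a = 1 ∨ a = -1 := by decide
  rcases hcase _ h0 with ha | ha
  · left
    refine Subtype.ext (Prod.ext h1 (Units.ext ?_))
    rw [hsc, ha, one_smul]; rfl
  · right
    refine Subtype.ext (Prod.ext (h1.trans (show (1 : Perm (Fin 8)) = (negOne : even).1.1 from rfl)) (Units.ext ?_))
    rw [hsc, ha, neg_one_smul]; simp [negOne]

theorem negOne_ne : negOne ≠ 1 := fun h =>
  (show (-1 : M16) ≠ 1 by decide +kernel) (congrArg (fun p : even => (p.1.2 : M16)) h)

theorem negOne_sq : negOne * negOne = 1 :=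
  Subtype.ext (Prod.ext (one_mul 1) (Units.ext (by simp [negOne])))

theorem center_eq : Subgroup.center even = proj.ker := by
  refine le_antisymm (fun p hp => ?_) fun p hp => ?_
  · rw [MonoidHom.mem_ker]
    have hmem : proj p ∈ Subgroup.center (alternatingGroup (Fin 8)) := by
      rw [Subgroup.mem_center_iff]
      intro σ
      obtain ⟨q, rfl⟩ := proj_surjective σ
      rw [← map_mul, ← map_mul, Subgroup.mem_center_iff.mp hp q]
    rw [alternatingGroup.center_eq_bot (by simp)] at hmem
    exact hmem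
  · rw [Subgroup.mem_center_iff]
    intro q
    rcases eq_of_proj hp with rfl | rfl
    · simp
    · exact Subtype.ext (Prod.ext ((mul_one _).trans (one_mul _).symm)
        (Units.ext (by simp [negOne])))

theorem card_center : Nat.card (Subgroup.center even) = 2 := by
  rw [center_eq, Nat.card_eq_two_iff]
  refine ⟨1, ⟨negOne, rfl⟩, fun h => negOne_ne (congrArg Subtype.val h).symm, ?_⟩
  ext ⟨p, hp⟩
  simp only [Set.mem_insert_iff, Set.mem_singleton_iff, Set.mem_univ, iff_true]
  rcases eq_of_proj hp with rfl | rfl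
  · exact Or.inl rfl
  · exact Or.inr rfl

theorem mul_mem_even {i j k l : Fin 8} (h : i ≠ j) (h' : k ≠ l) :
    liftSwap i j h * liftSwap k l h' ∈ even :=
  ⟨mul_mem (liftSwap_mem i j h) (liftSwap_mem k l h'), by
    show swap i j * swap k l ∈ alternatingGroup (Fin 8)
    rw [Perm.mem_alternatingGroup, map_mul, Perm.sign_swap h, Perm.sign_swap h']; rfl⟩

/-- A lift of `(0 1)(2 3)`. -/
def liftA : even := ⟨_, mul_mem_even (i := 0) (j := 1) (k := 2) (l := 3) (by decide) (by decide)⟩

/-- A lift of `(4 5)(6 7)`. -/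
def liftB : even := ⟨_, mul_mem_even (i := 4) (j := 5) (k := 6) (l := 7) (by decide) (by decide)⟩

theorem liftA_sq : liftA * liftA = negOne :=
  Subtype.ext (Prod.ext (by decide +kernel) (Units.ext (by
    show (γ 0 - γ 1) * (γ 2 - γ 3) * ((γ 0 - γ 1) * (γ 2 - γ 3)) = -1
    decide +kernel)))

theorem liftAB_sq : liftA * liftB * (liftA * liftB) = 1 :=
  Subtype.ext (Prod.ext (by decide +kernel) (Units.ext (by
    show (γ 0 - γ 1) * (γ 2 - γ 3) * ((γ 4 - γ 5) * (γ 6 - γ 7)) *
      ((γ 0 - γ 1) * (γ 2 - γ 3) * ((γ 4 - γ 5) * (γ 6 - γ 7))) = 1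
    decide +kernel)))

theorem isNonsplit : Cfsg.IsNonsplitDoubleCover even (alternatingGroup (Fin 8)) := by
  refine ⟨card_center,
    ⟨(QuotientGroup.quotientMulEquivOfEq center_eq).trans
      (QuotientGroup.quotientKerEquivOfSurjective proj proj_surjective)⟩, fun L hL => ?_⟩
  obtain ⟨⟨⟨c, hc⟩, ⟨l, hl⟩⟩, hcl⟩ := hL.2 liftA
  simp only at hcl
  have hl2 : l * l = negOne := by
    have hcc := Subgroup.mem_center_iff.mp hc
    have hc2 : c * c = 1 := by
      rcases eq_of_proj (p := c) (MonoidHom.mem_ker.mp (center_eq ▸ (show c ∈ Subgroup.center even from hc))) with rfl | rfl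
      · exact mul_one _
      · exact negOne_sq
    have h2 := (show Commute c l from (hcc l).symm).mul_pow 2
    rw [hcl, pow_two, pow_two, pow_two, liftA_sq, hc2, one_mul] at h2
    exact h2.symm
  have hmem : negOne ∈ Subgroup.center even ⊓ L :=
    ⟨center_eq.symm ▸ (rfl : proj negOne = 1), hl2 ▸ L.mul_mem hl hl⟩
  rw [hL.disjoint.eq_bot] at hmem
  exact negOne_ne hmem

theorem exists_cover : ∃ (H : Type) (_ : Group H) (_ : Finite H),
    Cfsg.IsNonsplitDoubleCover H (alternatingGroup (Fin 8)) ∧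
      ∃ x y : H, x ≠ y ∧ orderOf x = 2 ∧ orderOf y = 2 := by
  haveI : _root_.Fact (Nat.Prime 2) := ⟨Nat.prime_two⟩
  refine ⟨even, inferInstance, inferInstance, isNonsplit, negOne, liftA * liftB, ?_, ?_, ?_⟩
  · intro h
    have := congrArg (fun p : even => p.1.1 0) h
    revert this
    decide +kernel
  · exact orderOf_eq_prime (by rw [pow_two, negOne_sq]) negOne_ne
  · refine orderOf_eq_prime (by rw [pow_two, liftAB_sq]) fun h => ?_
    have := congrArg (fun p : even => p.1.1 0) h
    revert this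
    decide +kernel

end CfsgLib.SporB.CoverEight
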