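import Cfsg.Prelude.Def_SporadicB

set_option autoImplicit false

/-!
A non-split double cover of an alternating group of degree at most 7 has only one involution:
otherwise all involutions of the quotient lift to involutions, so a Sylow 2-subgroup splits over
the centre, and so does the whole group by transfer.
-/

namespace CfsgLib.SporB.CoverSmall

open Equiv

variable {H : Type*} [Group H] [Finite H]

omit [Finite H] in
theorem prod_zpow_invol {s r : H} (hs : s * s = 1) (hsr : s * r * s = r⁻¹) (j : ℤ) :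
    s * r ^ j = r ^ (-j) * s := by
  have hsi : s⁻¹ = s := inv_eq_of_mul_eq_one_right hs
  have h : SemiconjBy s r r⁻¹ := by
    show s * r = r⁻¹ * s
    rw [← hsr, mul_assoc (s * r), hs, mul_one]
  simpa [zpow_neg] using (h.zpow_right j).eq

/-- The dihedral group generated by an involution `s` and an element `r` it inverts. -/
def dih (s r : H) (hs : s * s = 1) (hsr : s * r * s = r⁻¹) : Subgroup H where
  carrier := {g | ∃ j : ℤ, g = r ^ j ∨ g = r ^ j * s}
  one_mem' := ⟨0, Or.inl (zpow_zero r).symm⟩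
  mul_mem' := by
    rintro a b ⟨i, rfl | rfl⟩ ⟨j, rfl | rfl⟩
    · exact ⟨i + j, Or.inl (zpow_add r i j).symm⟩
    · exact ⟨i + j, Or.inr (by rw [zpow_add, mul_assoc])⟩
    · exact ⟨i - j, Or.inr (by rw [mul_assoc, prod_zpow_invol hs hsr, ← mul_assoc, ← zpow_add, sub_eq_add_neg])⟩
    · exact ⟨i - j, Or.inl (by
        rw [mul_assoc, ← mul_assoc s, prod_zpow_invol hs hsr, mul_assoc, hs, mul_one, ← zpow_add,
          sub_eq_add_neg])⟩
  inv_mem' := by
    rintro a ⟨j, rfl | rfl⟩
    · exact ⟨-j, Or.inl (zpow_neg r j).symm⟩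
    · exact ⟨j, Or.inr (by
        rw [mul_inv_rev, inv_eq_of_mul_eq_one_right hs, ← zpow_neg, prod_zpow_invol hs hsr, neg_neg])⟩

theorem lift_sq_eq_one {K : Type*} [Group K] (π : H →* K) (z : H) (hz : z ∈ Subgroup.center H)
    (hzz : z * z = 1) (hker : ∀ g, π g = 1 → g = 1 ∨ g = z) {x : H} (hx : x * x = 1) {g : H}
    (hg : ∃ c, c * π x * c⁻¹ = π g) (hπ : Function.Surjective π) : g * g = 1 := by
  obtain ⟨c, hc⟩ := hg
  obtain ⟨d, rfl⟩ := hπ c
  have h1 : π ((d * x * d⁻¹)⁻¹ * g) = 1 := by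
    rw [map_mul, map_inv, map_mul, map_mul, map_inv, hc, inv_mul_cancel]
  have hconj : d * x * d⁻¹ * (d * x * d⁻¹) = 1 := by
    rw [show d * x * d⁻¹ * (d * x * d⁻¹) = d * (x * x) * d⁻¹ by group, hx, mul_one, mul_inv_cancel]
  rcases hker _ h1 with h | h
  · rw [inv_mul_eq_one] at h
    rw [← h, hconj]
  · rw [inv_mul_eq_iff_eq_mul] at h
    rw [h, show d * x * d⁻¹ * z * (d * x * d⁻¹ * z) = d * x * d⁻¹ * (z * (d * x * d⁻¹)) * z by group,
      (Subgroup.mem_center_iff.mp hz (d * x * d⁻¹)).symm,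
      show d * x * d⁻¹ * (d * x * d⁻¹ * z) * z = d * x * d⁻¹ * (d * x * d⁻¹) * (z * z) by group,
      hconj, hzz, one_mul]

/-- If all involutions of the quotient lift to involutions, a dihedral subgroup of odd index in the
quotient splits the extension. -/
theorem exists_complement {K : Type*} [Group K] [Finite K] (π : H →* K) (hπ : Function.Surjective π)
    (z : H) (hz : z ∈ Subgroup.center H) (hz1 : z ≠ 1) (hker : ∀ g, π g = 1 → g = 1 ∨ g = z)
    (hπz : π z = 1) (hlift : ∀ g : H, orderOf (π g) = 2 → g * g = 1) (m : ℕ) (hm : m ≠ 0)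
    (hm2 : 2 ∣ m) (a b : K) (ha : orderOf a = 2) (hb : orderOf b = 2)
    (hmo : orderOf ((a * b) ^ (m / 2)) = 2)
    (hinj : Function.Injective fun p : Fin m × Bool =>
      (a * b) ^ p.1.val * if p.2 then a else 1)
    (hodd : ∃ k, Odd k ∧ Nat.card K = 2 * m * k) :
    ∃ f : H →* Multiplicative (ZMod 2), f z ≠ 1 := by
  obtain ⟨s, rfl⟩ := hπ a
  obtain ⟨t, rfl⟩ := hπ b
  have hs : s * s = 1 := hlift s ha
  have ht : t * t = 1 := hlift t hb
  set r := s * t with hr
  have hsr : s * r * s = r⁻¹ := by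
    rw [hr, mul_inv_rev, inv_eq_of_mul_eq_one_right hs, inv_eq_of_mul_eq_one_right ht,
      ← mul_assoc, hs, one_mul]
  have hrm : r ^ m = 1 := by
    have h := hlift (r ^ (m / 2)) (by rw [map_pow, hr, map_mul]; exact hmo)
    rwa [← pow_add, ← two_mul, Nat.mul_div_cancel' hm2] at h
  set L := dih s r hs hsr with hL
  let e : Fin m × Bool → L := fun p => ⟨r ^ p.1.val * if p.2 then s else 1, by
    cases p.2
    · exact ⟨p.1.val, Or.inl (by simp)⟩
    · exact ⟨p.1.val, Or.inr (by simp)⟩⟩
  have he : ∀ p, π (e p : H) = (π s * π t) ^ p.1.val * if p.2 then π s else 1 := by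
    intro p
    show π (r ^ p.1.val * if p.2 then s else 1) = _
    rw [map_mul, map_pow, hr, map_mul]
    cases p.2 <;> simp
  have hsurj : Function.Surjective e := by
    rintro ⟨g, j, hj⟩
    have hmod : r ^ j = r ^ ((j % m).toNat) := by
      rw [← zpow_natCast, Int.toNat_of_nonneg (Int.emod_nonneg _ (by exact_mod_cast hm))]
      conv_lhs => rw [← Int.emod_add_ediv_mul j m, zpow_add, mul_comm (j / m), zpow_mul,
        zpow_natCast, hrm, one_zpow, mul_one]
    have hlt : (j % m).toNat < m := by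
      have := Int.emod_lt_of_pos j (show (0 : ℤ) < m by exact_mod_cast Nat.pos_of_ne_zero hm)
      omega
    rcases hj with rfl | rfl
    · exact ⟨(⟨_, hlt⟩, false), Subtype.ext (by simp [e, hmod])⟩
    · exact ⟨(⟨_, hlt⟩, true), Subtype.ext (by simp [e, hmod])⟩
  have hinjπ : Set.InjOn π (L : Set H) := by
    intro u hu v hv huv
    obtain ⟨p, hp⟩ := hsurj ⟨u, hu⟩
    obtain ⟨q, hq⟩ := hsurj ⟨v, hv⟩
    have hp' : (e p : H) = u := congrArg Subtype.val hp
    have hq' : (e q : H) = v := congrArg Subtype.val hq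
    have : p = q := hinj (by simp only; rw [← he, ← he, hp', hq', huv])
    rw [← hp', ← hq', this]
  have hzL : z ∉ L := fun h => hz1 (hinjπ h L.one_mem (by rw [hπz, map_one]))
  set P := (L.map π).comap π with hP
  have hLP : L ≤ P := Subgroup.le_comap_map π L
  have hzP : z ∈ P := by
    rw [hP, Subgroup.mem_comap, hπz]
    exact one_mem _
  have hcardL : Nat.card L = 2 * m := by
    have hie : Function.Injective e := fun p q h => hinj (by simp only; rw [← he, ← he, h])
    rw [← Nat.card_congr (Equiv.ofBijective e ⟨hie, hsurj⟩), Nat.card_prod]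
    simp [mul_comm]
  have hmem : ∀ g ∈ P, g ∈ L ∨ g * z ∈ L := by
    intro g hg
    obtain ⟨u, hu, hug⟩ := hg
    rcases hker (g⁻¹ * u) (by rw [map_mul, map_inv, hug, inv_mul_cancel]) with h | h
    · rw [inv_mul_eq_one] at h
      exact Or.inl (h ▸ hu)
    · rw [inv_mul_eq_iff_eq_mul] at h
      exact Or.inr (h ▸ hu)
  have hidx : (L.subgroupOf P).index = 2 := by
    rw [Subgroup.index_eq_two_iff]
    refine ⟨⟨z, hzP⟩, fun g => ?_⟩
    simp only [Subgroup.mem_subgroupOf, Subgroup.coe_mul, xor_iff_or_and_not_and]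
    rcases hmem g g.2 with h | h
    · exact ⟨Or.inr h, fun h' => hzL (by simpa using L.mul_mem (L.inv_mem h) h'.1)⟩
    · exact ⟨Or.inl h, fun h' => hzL (by simpa using L.mul_mem (L.inv_mem h'.2) h)⟩
  classical
  let φ : P →* Multiplicative (ZMod 2) :=
    { toFun := fun g => if g ∈ L.subgroupOf P then 1 else Multiplicative.ofAdd 1
      map_one' := if_pos (one_mem _)
      map_mul' := by
        intro g g'
        have h2 := Subgroup.mul_mem_iff_of_index_two hidx (a := g) (b := g')
        by_cases h : g ∈ L.subgroupOf P <;> by_cases h' : g' ∈ L.subgroupOf P <;>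
          simp [h, h', h2] <;> decide }
  have hoddP : Odd P.index := by
    obtain ⟨k, hk, hcardK⟩ := hodd
    rw [hP, Subgroup.index_comap_of_surjective _ hπ]
    have hmap : Nat.card (L.map π) = 2 * m := by
      rw [← hcardL]
      exact (Nat.card_congr (Equiv.Set.imageOfInjOn π (L : Set H) hinjπ)).symm
    have h1 := Subgroup.card_mul_index (L.map π)
    rw [hmap, hcardK] at h1
    rw [Nat.eq_of_mul_eq_mul_left (by omega : 0 < 2 * m) h1]
    exact hk
  refine ⟨φ.transfer, ?_⟩
  have hcent : ∀ g, g * z = z * g := Subgroup.mem_center_iff.mp hz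
  have key : ∀ (k : ℕ) (g₀ : H), g₀⁻¹ * z ^ k * g₀ ∈ P → g₀⁻¹ * z ^ k * g₀ = z ^ k := by
    intro k g₀ _
    have hc : Commute g₀ (z ^ k) := Commute.pow_right (hcent g₀) k
    rw [mul_assoc, ← hc.eq, inv_mul_cancel_left]
  rw [MonoidHom.transfer_eq_pow φ z key]
  have hφz : φ ⟨z, hzP⟩ = Multiplicative.ofAdd 1 := if_neg hzL
  rw [show (⟨z ^ P.index, _⟩ : P) = ⟨z, hzP⟩ ^ P.index from Subtype.ext rfl, map_pow, hφz]
  obtain ⟨k, hk⟩ := hoddP
  rw [hk, pow_succ, pow_mul]
  have h2 : (Multiplicative.ofAdd (1 : ZMod 2)) ^ 2 = 1 := by decide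
  rw [h2, one_pow, one_mul]
  decide

/-- Two involutions of `Aₙ`, `n ≤ 7`, are conjugate. -/
theorem conj_invol {n : ℕ} (hn : n ≤ 7) (u v : alternatingGroup (Fin n)) (hu : orderOf u = 2)
    (hv : orderOf v = 2) : ∃ c, c * u * c⁻¹ = v := by
  have hct : ∀ w : alternatingGroup (Fin n), orderOf w = 2 → (w : Perm (Fin n)).cycleType = {2, 2} := by
    intro w hw
    have ho : orderOf (w : Perm (Fin n)) = 2 := by rw [Subgroup.orderOf_coe, hw]
    obtain ⟨k, hk⟩ := Perm.cycleType_prime_order (σ := (w : Perm (Fin n)))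
      (by rw [ho]; exact Nat.prime_two)
    rw [ho] at hk
    have hsum := (Finset.card_le_univ (w : Perm (Fin n)).support)
    rw [← Perm.sum_cycleType, hk, Multiset.sum_replicate, Fintype.card_fin, smul_eq_mul] at hsum
    have hs : Perm.sign (w : Perm (Fin n)) = 1 := w.2
    rw [Perm.sign_of_cycleType, hk, Multiset.sum_replicate, Multiset.card_replicate, smul_eq_mul] at hs
    have hk3 : k ≤ 2 := by omega
    have : k = 1 := by
      clear hk hsum
      interval_cases k <;> revert hs <;> decide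
    subst this
    exact hk
  have hu' := hct u hu
  have hv' := hct v hv
  obtain ⟨σ, hσ⟩ := isConj_iff.mp (Perm.isConj_iff_cycleType_eq.mpr (hu'.trans hv'.symm))
  rcases Int.units_eq_one_or (Perm.sign σ) with h | h
  · exact ⟨⟨σ, h⟩, Subtype.ext hσ⟩
  · obtain ⟨τ, hτc, hτ⟩ : ∃ τ : Perm (Fin n), τ * (u : Perm (Fin n)) = u * τ ∧ Perm.sign τ = -1 := by
      obtain ⟨a, ha⟩ : ∃ a, (u : Perm (Fin n)) a ≠ a := by
        by_contra hall
        push Not at hall
        have : (u : Perm (Fin n)) = 1 := Equiv.ext hall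
        rw [this, Perm.cycleType_one] at hu'
        exact absurd hu' (by decide)
      have huu : (u : Perm (Fin n)) ((u : Perm (Fin n)) a) = a := by
        have h2 : (u : Perm (Fin n)) ^ 2 = 1 := by
          rw [← Subgroup.coe_pow, ← hu, pow_orderOf_eq_one, Subgroup.coe_one]
        rw [← Perm.mul_apply, ← pow_two, h2, Perm.one_apply]
      refine ⟨swap a ((u : Perm (Fin n)) a), ?_, Perm.sign_swap (Ne.symm ha)⟩
      rw [Equiv.mul_swap_eq_swap_mul, huu, swap_comm]
    refine ⟨⟨σ * τ, by rw [Perm.mem_alternatingGroup, map_mul, h, hτ]; rfl⟩, Subtype.ext ?_⟩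
    show σ * τ * (u : Perm (Fin n)) * (σ * τ)⁻¹ = v
    rw [mul_inv_rev, mul_assoc σ τ, hτc, ← hσ]
    group

/-- Generators of a dihedral subgroup of order `2m` and odd index. -/
theorem exists_gens {n : ℕ} (hn : n ≤ 7) (h4 : 4 ≤ n) :
    ∃ (m : ℕ) (a b : alternatingGroup (Fin n)), m ≠ 0 ∧ 2 ∣ m ∧ orderOf a = 2 ∧ orderOf b = 2 ∧
      orderOf ((a * b) ^ (m / 2)) = 2 ∧
      (Function.Injective fun p : Fin m × Bool => (a * b) ^ p.1.val * if p.2 then a else 1) ∧
      ∃ k, Odd k ∧ Nat.card (alternatingGroup (Fin n)) = 2 * m * k := by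
  haveI : _root_.Fact (Nat.Prime 2) := ⟨Nat.prime_two⟩
  have hcard : ∀ j, 2 ≤ j → Nat.card (alternatingGroup (Fin j)) = j.factorial / 2 := by
    intro j hj
    haveI : Nontrivial (Fin j) := Fin.nontrivial_iff_two_le.mpr hj
    have h2 := two_mul_card_alternatingGroup (α := Fin j)
    rw [Fintype.card_perm, Fintype.card_fin] at h2
    rw [Nat.card_eq_fintype_card]
    omega
  interval_cases n
  · refine ⟨2, ⟨swap 0 1 * swap 2 3, Perm.mem_alternatingGroup.mpr (by decide)⟩, ⟨swap 0 2 * swap 1 3, Perm.mem_alternatingGroup.mpr (by decide)⟩, by norm_num,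
      dvd_rfl, orderOf_eq_prime (by decide) (by decide), orderOf_eq_prime (by decide) (by decide),
      orderOf_eq_prime (by decide) (by decide), by decide, 3, by decide, ?_⟩
    rw [hcard _ (by norm_num)]; rfl
  · refine ⟨2, ⟨swap 0 1 * swap 2 3, Perm.mem_alternatingGroup.mpr (by decide)⟩, ⟨swap 0 2 * swap 1 3, Perm.mem_alternatingGroup.mpr (by decide)⟩, by norm_num,
      dvd_rfl, orderOf_eq_prime (by decide) (by decide), orderOf_eq_prime (by decide) (by decide),
      orderOf_eq_prime (by decide) (by decide), by decide, 15, by decide, ?_⟩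
    rw [hcard _ (by norm_num)]; rfl
  · refine ⟨4, ⟨swap 0 1 * swap 2 3, Perm.mem_alternatingGroup.mpr (by decide)⟩, ⟨swap 1 2 * swap 4 5, Perm.mem_alternatingGroup.mpr (by decide)⟩, by norm_num,
      by norm_num, orderOf_eq_prime (by decide) (by decide), orderOf_eq_prime (by decide) (by decide),
      orderOf_eq_prime (by decide) (by decide), by decide, 45, by decide, ?_⟩
    rw [hcard _ (by norm_num)]; rfl
  · refine ⟨4, ⟨swap 0 1 * swap 2 3, Perm.mem_alternatingGroup.mpr (by decide)⟩, ⟨swap 1 2 * swap 4 5, Perm.mem_alternatingGroup.mpr (by decide)⟩, by norm_num,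
      by norm_num, orderOf_eq_prime (by decide) (by decide), orderOf_eq_prime (by decide) (by decide),
      orderOf_eq_prime (by decide) (by decide), by decide, 315, by decide, ?_⟩
    rw [hcard _ (by norm_num)]; rfl

theorem eq_of_invol {n : ℕ} (hn : n ≤ 7) (h : Cfsg.IsNonsplitDoubleCover H (alternatingGroup (Fin n)))
    (x y : H) (hx : orderOf x = 2) (hy : orderOf y = 2) : x = y := by
  obtain ⟨hZ, ⟨e⟩, hsplit⟩ := h
  obtain ⟨⟨z, hz⟩, hz1, hzu⟩ : ∃ z : Subgroup.center H, z ≠ 1 ∧ ∀ w, w ≠ 1 → w = z := by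
    obtain ⟨w, hw⟩ := (Nat.card_eq_two_iff' (1 : Subgroup.center H)).mp hZ
    exact ⟨w, hw.1, fun v hv => hw.2 v hv⟩
  have hz1' : z ≠ 1 := fun h => hz1 (Subtype.ext h)
  let π : H →* alternatingGroup (Fin n) := e.toMonoidHom.comp (QuotientGroup.mk' _)
  have hπ : Function.Surjective π := e.surjective.comp (QuotientGroup.mk'_surjective _)
  have hker : ∀ g, π g = 1 → g = 1 ∨ g = z := by
    intro g hg
    have hg' : g ∈ Subgroup.center H := by
      rw [← QuotientGroup.eq_one_iff]
      exact e.injective (hg.trans (map_one e).symm)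
    by_cases h1 : g = 1
    · exact Or.inl h1
    · exact Or.inr (congrArg Subtype.val (hzu ⟨g, hg'⟩ fun h => h1 (congrArg Subtype.val h)))
  have hπz : π z = 1 := by
    show e (QuotientGroup.mk z) = 1
    rw [(QuotientGroup.eq_one_iff z).mpr hz, map_one]
  have hzz : z * z = 1 := by
    have := pow_card_eq_one' (x := (⟨z, hz⟩ : Subgroup.center H))
    rw [hZ, pow_two] at this
    exact congrArg Subtype.val this
  suffices key : ∀ x : H, orderOf x = 2 → x = z by rw [key x hx, key y hy]
  intro x hx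
  have hx2 : x * x = 1 := by rw [← pow_two, ← hx, pow_orderOf_eq_one]
  by_cases hπx : π x = 1
  · rcases hker x hπx with h | h
    · rw [h, orderOf_one] at hx; omega
    · exact h
  exfalso
  have hox : orderOf (π x) = 2 := by
    haveI : _root_.Fact (Nat.Prime 2) := ⟨Nat.prime_two⟩
    exact orderOf_eq_prime (by rw [pow_two, ← map_mul, hx2, map_one]) hπx
  have h4 : 4 ≤ n := by
    by_contra hlt
    have h2 : 2 ∣ Nat.card (alternatingGroup (Fin n)) := hox ▸ orderOf_dvd_natCard _
    interval_cases n <;> revert h2 <;> rw [Nat.card_eq_fintype_card] <;> decide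
  obtain ⟨m, a, b, hm, hm2, ha, hb, hmo, hinj, hodd⟩ := exists_gens hn h4
  have hlift : ∀ g : H, orderOf (π g) = 2 → g * g = 1 := fun g hg =>
    lift_sq_eq_one π z hz hzz hker hx2 (conj_invol hn _ _ hox hg) hπ
  obtain ⟨f, hf⟩ := exists_complement π hπ z hz hz1' hker hπz hlift m hm hm2 a b ha hb hmo hinj hodd
  refine hsplit f.ker (Subgroup.isComplement'_of_card_mul_and_disjoint ?_ ?_)
  · rw [hZ, ← Subgroup.card_mul_index f.ker, mul_comm, Subgroup.index_ker]
    congr 1
    have hle : f.range = ⊤ := by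
      rw [eq_top_iff]
      intro w _
      have : ∀ w : Multiplicative (ZMod 2), w = 1 ∨ w = Multiplicative.ofAdd 1 := by decide
      rcases this w with rfl | rfl
      · exact one_mem _
      · exact ⟨z, (this (f z)).resolve_left hf⟩
    rw [hle, Subgroup.card_top, Nat.card_eq_fintype_card]
    rfl
  · rw [Subgroup.disjoint_def]
    intro g hg hgk
    rcases hker g (by show e (QuotientGroup.mk g) = 1; rw [(QuotientGroup.eq_one_iff g).mpr hg, map_one]) with h | h
    · exact h
    · exact absurd (h ▸ hgk) hf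

end CfsgLib.SporB.CoverSmall
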